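import Groth.Agent.H23.GammaCap.Deep
import Groth.Agent.H28.KFilt
import Groth.Agent.H23.AcyclicRes.Step
import Groth.Prelude.Def_KDet

/-!
# The filtration by depth inside a closed set, and tensoring by line bundles
-/

set_option autoImplicit false
set_option linter.style.haveILetI false
set_option linter.unusedSectionVars false
set_option backward.isDefEq.respectTransparency false
set_option backward.isDefEq.respectTransparency.types false

universe v u

open CategoryTheory CategoryTheory.Limits AlgebraicGeometry TopologicalSpace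

noncomputable section

namespace Groth.Agent.H23.GammaCap

open Groth.Agent Groth.Agent.H28

variable {X Y : Scheme.{u}}

/-- Classes of coherent modules whose support is deep in `W`. -/
def Fil (W : Set X) (p : ℕ) : AddSubgroup (SGA6.Kcoh X) :=
  AddSubgroup.closure {c | ∃ G : X.Modules, Coh.IsCoh G ∧ (∀ w ∈ CohB1.support G, Deep W p w) ∧
    c = KDet.clc X G}

theorem mem_fil {W : Set X} {p : ℕ} {G : X.Modules} (hG : Coh.IsCoh G) (h : ∀ w ∈ CohB1.support G, Deep W p w) :
    KDet.clc X G ∈ Fil W p :=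
  AddSubgroup.subset_closure ⟨G, hG, h, rfl⟩

theorem fil_le_comap {A : Type*} [AddCommGroup A] {W : Set X} {p : ℕ} (θ : SGA6.Kcoh X →+ A) (T : AddSubgroup A)
    (h : ∀ G : X.Modules, Coh.IsCoh G → (∀ w ∈ CohB1.support G, Deep W p w) → θ (KDet.clc X G) ∈ T)
    {c : SGA6.Kcoh X} (hc : c ∈ Fil W p) : θ c ∈ T :=
  (AddSubgroup.closure_le (T.comap θ)).2 (by rintro _ ⟨G, hG, hw, rfl⟩; exact h G hG hw) hc

theorem fil_mono {W W' : Set X} (hW : W ⊆ W') {p q : ℕ} (hpq : q ≤ p) : Fil W p ≤ Fil W' q :=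
  (AddSubgroup.closure_le _).2 (by
    rintro _ ⟨G, hG, hw, rfl⟩
    exact mem_fil hG fun w h => ((hw w h).mono hW).of_le hpq)

theorem fil_trans {W W' : Set X} {p q : ℕ} (h : ∀ v ∈ W', Deep W q v) : Fil W' p ≤ Fil W (q + p) :=
  (AddSubgroup.closure_le _).2 (by
    rintro _ ⟨G, hG, hw, rfl⟩
    exact mem_fil hG fun w hm => Deep.trans h (hw w hm))

/-- Tensoring by a bundle on the classes of coherent modules. -/
theorem exists_tens [IsNoetherian X] {L : X.Modules} (hL : FlatMod.IsFinLocFree L) :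
    ∃ τ : SGA6.Kcoh X →+ SGA6.Kcoh X, ∀ G : X.Modules, Coh.IsCoh G →
      τ (KDet.clc X G) = KDet.clc X (CohB1.tensorMod L G) :=
  KZ.exists_liftSub (fun M : X.Modules => Coh.IsCoh M) (fun G => KDet.clc X (CohB1.tensorMod L G))
    fun S hS h₁ h₂ h₃ => KZ.clSub_ses (fun M : X.Modules => Coh.IsCoh M)
      (CurveTensor.shortExact_tensor hL S.f S.g S.zero hS) (CurveTensor.isCoh_tensor hL h₁)
      (CurveTensor.isCoh_tensor hL h₂) (CurveTensor.isCoh_tensor hL h₃)

/-- Direct image along a closed immersion on the classes of coherent modules. -/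
theorem exists_pushClosed [IsNoetherian X] (i : Y ⟶ X) [IsClosedImmersion i] :
    ∃ θ : SGA6.Kcoh Y →+ SGA6.Kcoh X, ∀ G : Y.Modules, Coh.IsCoh G →
      θ (KDet.clc Y G) = KDet.clc X ((Coh.push i).obj G) := by
  haveI : PreservesFiniteColimits (Scheme.Modules.pushforward i) :=
    ⟨fun J _ _ => KFlatLib.preservesColimitsOfShape_push i J⟩
  haveI : PreservesFiniteLimits (Scheme.Modules.pushforward i) := by
    haveI := (Scheme.Modules.pullbackPushforwardAdjunction i).isRightAdjoint
    infer_instance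
  exact ⟨SGA6.mapSub (Scheme.Modules.pushforward i) (fun M : Y.Modules => Coh.IsCoh M)
    (fun M : X.Modules => Coh.IsCoh M) fun M hM => QCoh.isCoh_push i hM,
    fun G hG => GenBasis.mapSub_clSub _ _ _ _ hG⟩

/-- The projection formula for a closed immersion. -/
theorem nonempty_push_pull_tensor [IsNoetherian X] (i : Y ⟶ X) [IsClosedImmersion i] [HasInjectiveResolutions Y.Modules]
    {P : X.Modules} (hP : FlatMod.IsFinLocFree P) (G : Y.Modules) :
    Nonempty (CohB1.tensorMod P ((Coh.push i).obj G) ≅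
      (Coh.push i).obj (CohB1.tensorMod ((Scheme.Modules.pullback i).obj P) G)) := by
  haveI := QCoh.preservesFiniteLimits_push i
  haveI : IsNoetherian Y := PushComp.isNoetherian_of_closed i
  obtain ⟨φ⟩ := KFlatLib.nonempty_rpush_tensor_finLocFree i G P hP 0
  let r := (Scheme.Modules.pushforward i).rightDerivedZeroIsoSelf
  exact ⟨(DCoh.tensorBi.obj P).mapIso (r.app G).symm ≪≫ φ ≪≫ r.app _⟩

/-- The support of a proper direct image. -/
theorem support_push_proper (g : Y ⟶ X) [IsProper g] {F : Y.Modules} (hF : Coh.IsCoh F) :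
    CohB1.support ((Coh.push g).obj F) ⊆ g '' CohB1.support F := by
  intro y hy
  by_contra hyn
  have hcl : IsClosed (g '' CohB1.support F) :=
    g.isClosedMap _ (QCoh.isClosed_support_of_isFT hF.1 hF.2)
  refine hy ⟨fun a b => ?_⟩
  suffices h : ∀ a, a = (0 : ((Coh.push g).obj F).presheaf.stalk y) from (h a).trans (h b).symm
  intro a
  obtain ⟨U, hyU, s, rfl⟩ := TopCat.Presheaf.exists_germ_eq ((Coh.push g).obj F).presheaf a
  let V : X.Opens := U ⊓ ⟨_, hcl.isOpen_compl⟩
  have hyV : y ∈ V := ⟨hyU, hyn⟩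
  rw [← ((Coh.push g).obj F).presheaf.germ_res_apply (homOfLE (inf_le_left : V ≤ U)) y hyV]
  have hz : ((Coh.push g).obj F).presheaf.map (homOfLE (inf_le_left : V ≤ U)).op s = 0 := by
    refine TopCat.Presheaf.section_ext ⟨F.presheaf, F.isSheaf⟩ (g ⁻¹ᵁ V) _ _ fun x hx => ?_
    haveI : Subsingleton (F.presheaf.stalk x) := by
      by_contra h
      exact hx.2 ⟨x, h, rfl⟩
    exact Subsingleton.elim (α := (F.presheaf.stalk x)) _ _
  rw [hz]
  exact map_zero _

/-- On an integral scheme a line bundle and the structure sheaf agree away from depth one. -/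
theorem structure_sub_line_mem [IsNoetherian X] [IsIntegral X] {L : X.Modules} (hL : PicF.IsInvertible L) :
    KDet.clc X (Coh.structureModule X) - KDet.clc X L ∈ Fil (Set.univ : Set X) 1 := by
  obtain ⟨V, hV, ⟨e⟩⟩ := hL (genericPoint X)
  let W : Closeds X := ⟨(V : Set X)ᶜ, V.isOpen.isClosed_compl⟩
  obtain ⟨Xc, i, hic, hrange⟩ : ∃ (Xc : Scheme.{u}) (i : Xc ⟶ X), IsClosedImmersion i ∧ Set.range i = W :=
    ⟨_, (Scheme.IdealSheafData.vanishingIdeal W).subschemeι, inferInstance, H23.RedSub.range_vanishingIdeal _⟩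
  haveI := hic
  haveI : PreservesFiniteLimits (Scheme.Modules.restrictFunctor V.ι) := inferInstance
  have hLc : Coh.IsCoh L := CurveDeg.isCoh_of_isInvertible hL
  have hO : Coh.IsCoh (Coh.structureModule X) := QCoh.isCoh_structureModule'
  have h := KZ.Localization.mem_Im_of_restrict_iso i V (by rw [hrange]; rfl) hO hLc
    (Scheme.Modules.restrictUnitIso V.ι ≪≫ e.symm)
  refine (AddSubgroup.closure_le _).2 ?_ h
  rintro _ ⟨M, hM, rfl⟩
  refine mem_fil (QCoh.isCoh_push i hM) fun w hw => ?_
  have hwV : w ∉ (V : Set X) := by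
    have := (QCoh.support_push_subset i hM.1) hw
    rw [hrange] at this
    exact this
  exact ⟨trivial, genericPoint X, trivial, genericPoint_specializes w, fun e => hwV (e ▸ hV)⟩

theorem clc_tens_structure [IsNoetherian X] {Z : Scheme.{u}} (i : Z ⟶ X) [IsClosedImmersion i] [HasInjectiveResolutions Z.Modules]
    {L : X.Modules} (hLf : FlatMod.IsFinLocFree L) (hc : Coh.IsCoh ((Scheme.Modules.pullback i).obj L)) :
    KDet.clc X (CohB1.tensorMod L ((Coh.push i).obj (Coh.structureModule Z))) =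
      KDet.clc X ((Coh.push i).obj ((Scheme.Modules.pullback i).obj L)) := by
  obtain ⟨e⟩ := nonempty_push_pull_tensor i hLf (Coh.structureModule Z)
  obtain ⟨u⟩ := H23.PicMul.unit ((Scheme.Modules.pullback i).obj L)
  have h₁ : Coh.IsCoh (CohB1.tensorMod L ((Coh.push i).obj (Coh.structureModule Z))) := by
    generalize hP : (Coh.push i).obj (Coh.structureModule Z) = P
    have hP' : Coh.IsCoh P := hP ▸ QCoh.isCoh_push_structure i
    exact CurveTensor.isCoh_tensor hLf hP'
  have h₂ : Coh.IsCoh ((Coh.push i).obj ((Scheme.Modules.pullback i).obj L)) := QCoh.isCoh_push i hc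
  exact PBCohPush.clc_iso (e ≪≫ (Coh.push i).mapIso u) h₁ h₂

/-- Tensoring with a line bundle changes a class one step deeper. -/
theorem sub_line_mem [IsNoetherian X] {L : X.Modules} (hL : PicF.IsInvertible L) {τ : SGA6.Kcoh X →+ SGA6.Kcoh X}
    (hτ : ∀ G : X.Modules, Coh.IsCoh G → τ (KDet.clc X G) = KDet.clc X (CohB1.tensorMod L G))
    {W : Set X} {p : ℕ} {c : SGA6.Kcoh X} (hc : c ∈ Fil W p) : c - τ c ∈ Fil W (p + 1) := by
  refine fil_le_comap (AddMonoidHom.id _ - τ) _ (fun G hG hw => ?_) hc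
  refine KFilt.mem_of_support ((Fil W (p + 1)).comap (AddMonoidHom.id _ - τ))
    ⟨_, QCoh.isClosed_support_of_isFT hG.1 hG.2⟩ (fun {Z} i _ _ hr => ?_) G hG subset_rfl
  haveI : IsNoetherian Z := PushComp.isNoetherian_of_closed i
  haveI := KFlatLib.hasInjectiveResolutions_modules (X := Z)
  show KDet.clc X _ - τ _ ∈ Fil W (p + 1)
  have hLf := LineTwist.lf_invertible hL
  have hO : Coh.IsCoh (Coh.structureModule Z) := QCoh.isCoh_structureModule'
  have hLi : PicF.IsInvertible ((Scheme.Modules.pullback i).obj L) := PicClLib.isInvertible_pullback i hL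
  obtain ⟨θ, hθ⟩ := exists_pushClosed i
  have hτi : τ (KDet.clc X ((Coh.push i).obj (Coh.structureModule Z))) = θ (KDet.clc Z ((Scheme.Modules.pullback i).obj L)) := by
    rw [hτ _ (QCoh.isCoh_push_structure i), hθ _ (CurveDeg.isCoh_of_isInvertible hLi)]
    exact clc_tens_structure i hLf (CurveDeg.isCoh_of_isInvertible hLi)
  refine (congrArg₂ (fun a b : SGA6.Kcoh X => a - b) (hθ _ hO).symm hτi).symm ▸ ?_
  refine (map_sub θ _ _) ▸ ?_
  refine fil_le_comap θ _ (fun M hM hwM => ?_) (structure_sub_line_mem hLi)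
  rw [hθ M hM]
  refine mem_fil (QCoh.isCoh_push i hM) fun w hwm => ?_
  obtain ⟨z, hz, rfl⟩ : w ∈ i '' CohB1.support M := support_push_proper i hM hwm
  exact Deep.trans (W' := Set.range i) (fun v hv => hw v (hr hv)) ((hwM z hz).map i i.isClosedEmbedding.injective)

end Groth.Agent.H23.GammaCap
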