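import Groth.Agent.H23.GammaCap.Bundle
import Groth.Agent.RefX.Reflexive
import Groth.Agent.Lambda.GammaFil

/-!
# The `γ`-filtration lowers supports by its degree
-/

set_option autoImplicit false
set_option linter.style.haveILetI false
set_option linter.unusedSectionVars false
set_option backward.isDefEq.respectTransparency false
set_option backward.isDefEq.respectTransparency.types false

universe v u

open CategoryTheory CategoryTheory.Limits AlgebraicGeometry TopologicalSpace LambdaRing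

noncomputable section

namespace Groth.Agent.H23.GammaCap

open Groth.Agent Groth.Agent.H28

variable {X : Scheme.{u}} [IsNoetherian X] {K : Type v} [CommRing K] (μ : K →+ SGA6.Kcoh X →+ SGA6.Kcoh X)

/-- The elements lowering supports by at least `p`. -/
def Op (p : ℕ) : AddSubgroup K where
  carrier := setOf fun x => ∀ (Z : Scheme.{u}) (i : Z ⟶ X) (_ : IsClosedImmersion i) (_ : IsIntegral Z),
    μ x (KDet.clc X ((Coh.push i).obj (Coh.structureModule Z))) ∈ Fil (Set.range i) p
  zero_mem' := fun Z i _ _ => by rw [map_zero, AddMonoidHom.zero_apply]; exact zero_mem _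
  add_mem' := fun {x y} hx hy Z i h1 h2 => by
    rw [map_add, AddMonoidHom.add_apply]; exact add_mem (hx Z i h1 h2) (hy Z i h1 h2)
  neg_mem' := fun {x} hx Z i h1 h2 => by rw [map_neg, AddMonoidHom.neg_apply]; exact neg_mem (hx Z i h1 h2)

theorem op_fil {x : K} {p q : ℕ} (hx : x ∈ Op μ p) {W : Set X} {c : SGA6.Kcoh X} (hc : c ∈ Fil W q) :
    μ x c ∈ Fil W (q + p) := by
  refine fil_le_comap (μ x) _ (fun G hG hw => ?_) hc
  exact KFilt.mem_of_support ((Fil W (q + p)).comap (μ x)) ⟨_, QCoh.isClosed_support_of_isFT hG.1 hG.2⟩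
    (fun {Z} i hi hZ hr => fil_trans (fun v hv => hw v (hr hv)) (hx Z i hi hZ)) G hG subset_rfl

theorem op_anti {p q : ℕ} (h : q ≤ p) : Op μ p ≤ Op μ q := fun x hx Z i h1 h2 => fil_mono subset_rfl h (hx Z i h1 h2)

variable [LambdaOps K] {P : PosStructure K} {φ : SGA6.Kvb X →+ K}

theorem op_mul (hμ : KDet.IsCap φ μ) {x y : K} {p q : ℕ} (hx : x ∈ Op μ p) (hy : y ∈ Op μ q) :
    x * y ∈ Op μ (q + p) := fun Z i h1 h2 => by
  rw [hμ.mul_smul]
  exact op_fil μ hx (hy Z i h1 h2)

theorem op_zero (hK : KRR.IsModel X K P φ) (hμ : KDet.IsCap φ μ) (x : K) : x ∈ Op μ 0 := by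
  obtain ⟨A, B, hA, hB, rfl⟩ := KvbPull.exists_cl hK x
  suffices key : ∀ E : X.Modules, FlatMod.IsFinLocFree E → φ (KRR.cl X E) ∈ Op μ 0 from
    sub_mem (key A hA) (key B hB)
  intro E hE Z i hi hZ
  haveI := hi; haveI := hZ
  have hO := QCoh.isCoh_push_structure i
  rw [hμ.map_cl E _ hE hO]
  refine mem_fil (CurveTensor.isCoh_tensor hE hO) fun w hw => ?_
  exact QCoh.support_push_subset i QCoh.isQCoh_structureModule (CurveTensor.support_tensor_subset hw)

variable [ConnectedSpace X]

/-- A bundle is the dual of its dual. -/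
theorem nonempty_ddual {Y : Scheme.{u}} [IsNoetherian Y] {A : Y.Modules} (hA : FlatMod.IsFinLocFree A) :
    Nonempty (A ≅ RefHull.dual (RefHull.dual A)) := by
  have hc := PushLocFree.isCoh_of_isFinLocFree hA
  have h : RefHull.IsReflexive A := (RefX.isReflexive_iff hc).2 fun y => by
    haveI := QCoh.free_stalk_of_isFinLocFree hA y
    haveI : Module.Finite (Y.presheaf.stalk y) (A.presheaf.stalk y) := QCoh.finite_stalk_of_isFT hc.1 hc.2 y
    show Module.IsReflexive _ _
    infer_instance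
  exact ⟨@asIso _ _ _ _ (RefHull.bidualMap A) h⟩

set_option maxHeartbeats 1000000 in
/-- The `γ`-operations on a bundle minus its rank. -/
theorem gamma_bundle_mem (hK : KRR.IsModel X K P φ) (hμ : KDet.IsCap φ μ) {A : X.Modules} {r : ℕ}
    (hA : FlatMod.IsFinLocFreeOfRank r A) (j : ℕ) : gamma j (φ (KRR.cl X A) - (r : K)) ∈ Op μ j := by
  have hAl := KvbModel.lf_of_rank hA
  rcases Nat.eq_zero_or_pos r with rfl | hr
  · have h0 : φ (KRR.cl X A) = 0 :=
      (congrArg φ (KZ.clSub_isZero _ (PBAtlas.isZero_of_frames fun x => KvbModel.frameAt_of_rank hA x))).trans (map_zero φ)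
    rw [h0, Nat.cast_zero, sub_zero]
    rcases Nat.eq_zero_or_pos j with rfl | hj
    · exact op_zero μ hK hμ _
    · rw [Lambda.gamma_zero_right (by omega)]; exact zero_mem _
  obtain ⟨n, rfl⟩ : ∃ n, r = n + 1 := ⟨r - 1, by omega⟩
  set z := φ (KRR.cl X A) - ((n + 1 : ℕ) : K) with hz
  have hbig : ∀ l, n + 1 < l → gamma l z = 0 := fun l hl =>
    PBFil.gamma_sub_eq_zero (P := P) (Or.inr ⟨(hK.mem_pos_iff _).2 ⟨n + 1, A, hr, hA, rfl⟩, hK.aug_cl _ _ hA⟩) hl
  suffices H : ∀ q l, gamma l z ∈ Op μ (min l q) by simpa using H j j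
  intro q
  induction q with
  | zero => intro l; exact op_anti μ (by simp) (op_zero μ hK hμ _)
  | succ q ihq =>
    intro l
    rcases Nat.lt_or_ge q l with hlq | hlq
    swap
    · rw [show min l (q + 1) = min l q by omega]; exact ihq l
    rw [show min l (q + 1) = q + 1 by omega]
    intro Z i hi hZ
    haveI := hi; haveI := hZ
    haveI : IsNoetherian Z := PushComp.isNoetherian_of_closed i
    haveI := KFlatLib.hasInjectiveResolutions_modules (X := Z)
    obtain ⟨KC, _, _, PC, φC, hKC⟩ := KvbModel.exists_isModel (X := Z)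
    obtain ⟨pi, hpi, -⟩ := PullVB.existsUnique_isPull i φC φ hK.bijective
    have hAZ := LineTwist.rank_pull i hA
    have hAZl := KvbModel.lf_of_rank hAZ
    haveI hiso := DualFlatPull.isIso_toHull (PushLocFree.isCoh_of_isFinLocFree hAZl)
    have hEr : FlatMod.IsFinLocFreeOfRank (n + 1) (RefHull.dual ((Scheme.Modules.pullback i).obj A)) :=
      Chern.rank_of_iso (@asIso _ _ _ _ _ hiso) (Chern.rank_dual hAZ)
    obtain ⟨s, hsrel, hs1, hsF⟩ := exists_segre hEr hKC
    obtain ⟨edd⟩ := nonempty_ddual hAZl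
    let pr := KvbPull.ringHom hKC hK hpi
    have hzZ : φC (KRR.cl Z (RefHull.dual (RefHull.dual ((Scheme.Modules.pullback i).obj A)))) - ((n + 1 : ℕ) : KC) =
        pr z := by
      rw [hz, map_sub, map_natCast]
      refine congrArg (· - _) ?_
      exact ((hpi A hAl).trans (congrArg φC (KvbLam.cl_iso edd hAZl))).symm
    rw [hzZ] at hsrel
    obtain ⟨θ, hθ⟩ := exists_pushClosed i
    let eC := AddEquiv.ofBijective φC hKC.bijective
    let ψ : KC →+ SGA6.Kcoh X := θ.comp ((KFilt.δ Z).comp eC.symm.toAddMonoidHom)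
    have hψ : ∀ F : Z.Modules, FlatMod.IsFinLocFree F → ψ (φC (KRR.cl Z F)) = KDet.clc X ((Coh.push i).obj F) :=
      fun F hF => by
      show θ (KFilt.δ Z (eC.symm (φC (KRR.cl Z F)))) = _
      rw [show eC.symm (φC (KRR.cl Z F)) = _ from eC.symm_apply_apply _, KFilt.δ_cl hF]
      exact hθ F (PushLocFree.isCoh_of_isFinLocFree hF)
    have hproj : ∀ (x : K) (y : KC), ψ (pr x * y) = μ x (ψ y) := by
      intro x y
      obtain ⟨A₁, A₂, hA₁, hA₂, rfl⟩ := KvbPull.exists_cl hK x
      obtain ⟨B₁, B₂, hB₁, hB₂, rfl⟩ := KvbPull.exists_cl hKC y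
      suffices key : ∀ (E : X.Modules), FlatMod.IsFinLocFree E → ∀ (F : Z.Modules), FlatMod.IsFinLocFree F →
          ψ (pr (φ (KRR.cl X E)) * φC (KRR.cl Z F)) = μ (φ (KRR.cl X E)) (ψ (φC (KRR.cl Z F))) by
        have a := key A₁ hA₁ B₁ hB₁
        have b := key A₁ hA₁ B₂ hB₂
        have c := key A₂ hA₂ B₁ hB₁
        have d := key A₂ hA₂ B₂ hB₂
        simp only [map_sub, sub_mul, mul_sub, AddMonoidHom.sub_apply]
        erw [a, b, c, d]
      intro E hE F hF
      have hFc := PushLocFree.isCoh_of_isFinLocFree hF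
      have hlf := KFlatLib.isFinLocFree_tensor (KvbPull.lf_pull i hE) hF
      rw [show pr (φ (KRR.cl X E)) = φC (KRR.cl Z ((Scheme.Modules.pullback i).obj E)) from hpi E hE,
        hKC.map_mul _ _ (KvbPull.lf_pull i hE) hF, hψ _ hlf, hψ F hF,
        hμ.map_cl E _ hE (QCoh.isCoh_push i hFc)]
      obtain ⟨e⟩ := nonempty_push_pull_tensor i hE F
      have h₁ : Coh.IsCoh ((Coh.push i).obj ((DCoh.tensorBi.obj ((Scheme.Modules.pullback i).obj E)).obj F)) :=
        QCoh.isCoh_push i (PushLocFree.isCoh_of_isFinLocFree hlf)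
      exact PBCohPush.clc_iso e.symm h₁ (RefX.isCoh_of_iso e.symm h₁)
    have hψF : ∀ i', ψ (φC (s (n + i'))) ∈ Fil (Set.range i) i' := fun i' => by
      show θ (KFilt.δ Z (eC.symm (φC (s (n + i'))))) ∈ _
      rw [show eC.symm (φC (s (n + i'))) = _ from eC.symm_apply_apply _]
      refine fil_le_comap θ _ (fun M hM hwM => ?_) (hsF i')
      rw [hθ M hM]
      refine mem_fil (QCoh.isCoh_push i hM) fun w hwm => ?_
      obtain ⟨x, hx, rfl⟩ := support_push_proper i hM hwm
      exact (hwM x hx).map i i.isClosedEmbedding.injective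
    have hψ1 : ψ 1 = KDet.clc X ((Coh.push i).obj (Coh.structureModule Z)) := by
      rw [← hKC.map_one]; exact hψ _ KvbLam.lf_O
    rw [← hψ1]
    suffices key : ∀ t l, q < l → n + 1 < l + t → μ (gamma l z) (ψ 1) ∈ Fil (Set.range i) (q + 1) from
      key (n + 2) l hlq (by omega)
    intro t
    induction t with
    | zero => intro l _ hl; rw [hbig l (by omega), map_zero, AddMonoidHom.zero_apply]; exact zero_mem _
    | succ t iht =>
      intro l hlq hlt
      rcases Nat.lt_or_ge (n + 1) l with hln | hln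
      · rw [hbig l hln, map_zero, AddMonoidHom.zero_apply]; exact zero_mem _
      have h := congrArg ψ (hsrel (l - 1))
      rw [map_zero, map_sum, ← Finset.add_sum_erase _ _
        (Finset.mem_range.2 (show n + 1 - l < n + 2 by omega))] at h
      simp only [← PBFil.map_gamma (f := pr) (KvbPull.map_lam hKC hK hpi), hproj] at h
      rw [show n + 1 - (n + 1 - l) = l by omega, hs1 _ (by omega)] at h
      rw [eq_neg_of_add_eq_zero_left h]
      refine neg_mem (sum_mem fun k hk => ?_)
      obtain ⟨hkne, hk⟩ := Finset.mem_erase.1 hk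
      rw [Finset.mem_range] at hk
      rcases Nat.lt_or_ge (n + 1 - k) l with hjl | hjl
      · obtain ⟨i', hi'⟩ : ∃ i', l - 1 + k = n + i' := ⟨l - 1 + k - n, by omega⟩
        rw [hi']
        exact fil_mono subset_rfl (by omega) (op_fil μ (ihq (n + 1 - k)) (hψF i'))
      · rw [hs1 _ (by omega)]
        exact iht _ (by omega) (by omega)

theorem gamma_neg_mem (hK : KRR.IsModel X K P φ) (hμ : KDet.IsCap φ μ) {x : K}
    (h : ∀ j, gamma j x ∈ Op μ j) (j : ℕ) : gamma j (-x) ∈ Op μ j := by
  induction j using Nat.strong_induction_on with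
  | _ j ih =>
    rcases Nat.eq_zero_or_pos j with rfl | hj
    · exact op_zero μ hK hμ _
    have h0 := Lambda.gamma_add j x (-x)
    rw [add_neg_cancel, Lambda.gamma_zero_right (by omega), Finset.sum_range_succ', Nat.sub_zero, Lambda.gamma_zero,
      one_mul] at h0
    rw [eq_neg_of_add_eq_zero_right h0.symm]
    refine neg_mem (sum_mem fun i hi => ?_)
    rw [Finset.mem_range] at hi
    exact op_anti μ (by omega) (op_mul μ hμ (h (i + 1)) (ih (j - (i + 1)) (by omega)))

/-- `γ^j` of an element of rank zero lowers supports by `j`. -/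
theorem gamma_mem_op (hK : KRR.IsModel X K P φ) (hμ : KDet.IsCap φ μ) {x : K} (hx : P.aug x = 0) (j : ℕ) :
    gamma j x ∈ Op μ j := by
  obtain ⟨A, B, hA, hB, rfl⟩ := KvbPull.exists_cl hK x
  obtain ⟨a, ha⟩ := KvbModel.exists_rank hA
  obtain ⟨b, hb⟩ := KvbModel.exists_rank hB
  have hab : a = b := by
    rw [map_sub, hK.aug_cl a A ha, hK.aug_cl b B hb, sub_eq_zero] at hx
    exact_mod_cast hx
  subst hab
  rw [show φ (KRR.cl X A) - φ (KRR.cl X B) = (φ (KRR.cl X A) - (a : K)) + -(φ (KRR.cl X B) - (a : K)) by ring,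
    Lambda.gamma_add]
  refine sum_mem fun i hi => ?_
  rw [Finset.mem_range] at hi
  exact op_anti μ (by omega) (op_mul μ hμ (gamma_bundle_mem μ hK hμ ha i)
    (gamma_neg_mem μ hK hμ (gamma_bundle_mem μ hK hμ hb) (j - i)))

/-- `F^p K^•` lowers supports by `p`. -/
theorem gammaFiltration_le_op (hK : KRR.IsModel X K P φ) (hμ : KDet.IsCap φ μ) (p : ℕ) {x : K}
    (hx : x ∈ gammaFiltration P p) : x ∈ Op μ p := by
  rcases eq_or_ne p 0 with rfl | hp
  · exact op_zero μ hK hμ x
  rw [Lambda.gammaFiltration_of_ne_zero P hp] at hx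
  refine (AddSubgroup.closure_le _).2 ?_ hx
  rintro _ ⟨l, hl, hsum, rfl⟩
  refine op_anti μ hsum ?_
  clear hsum hx
  induction l with
  | nil => exact op_zero μ hK hμ _
  | cons a l ih =>
    simp only [List.map_cons, List.prod_cons, List.sum_cons]
    rw [add_comm]
    exact op_mul μ hμ (gamma_mem_op μ hK hμ (hl a List.mem_cons_self) a.1)
      (ih fun b hb => hl b (List.mem_cons_of_mem _ hb))

end Groth.Agent.H23.GammaCap
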