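import Groth.Agent.FlatDvr.DimFibre
import Groth.Agent.SchTop.Closed
import Mathlib.AlgebraicGeometry.Morphisms.ClosedImmersion

/-!
# Depth of a point inside a set, measured by chains of specialisations
-/

set_option autoImplicit false
set_option linter.style.haveILetI false
set_option linter.unusedSectionVars false

universe u

open CategoryTheory AlgebraicGeometry Order

namespace Groth.Agent.H23.GammaCap

variable {X Y Z : Scheme.{u}}

/-- `w` ends a chain of `p` strict specialisations inside `W`. -/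
def Deep (W : Set X) : ℕ → X → Prop
  | 0, w => w ∈ W
  | p + 1, w => w ∈ W ∧ ∃ v, Deep W p v ∧ v ⤳ w ∧ v ≠ w

theorem Deep.mem {W : Set X} : ∀ {p : ℕ} {w : X}, Deep W p w → w ∈ W
  | 0, _, h => h
  | _ + 1, _, h => h.1

theorem Deep.mono {W W' : Set X} (hW : W ⊆ W') : ∀ {p : ℕ} {w : X}, Deep W p w → Deep W' p w
  | 0, _, h => hW h
  | _ + 1, _, ⟨hw, v, hv, hs, hne⟩ => ⟨hW hw, v, hv.mono hW, hs, hne⟩

theorem Deep.pred {W : Set X} : ∀ {p : ℕ} {w : X}, Deep W (p + 1) w → Deep W p w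
  | 0, _, h => h.1
  | _ + 1, _, ⟨hw, v, hv, hs, hne⟩ => ⟨hw, v, hv.pred, hs, hne⟩

theorem Deep.of_le {W : Set X} {p q : ℕ} (hpq : p ≤ q) {w : X} (h : Deep W q w) : Deep W p w := by
  induction hpq with
  | refl => exact h
  | step _ ih => exact ih h.pred

theorem Deep.trans {W W' : Set X} {q : ℕ} (hW : ∀ v ∈ W', Deep W q v) :
    ∀ {p : ℕ} {w : X}, Deep W' p w → Deep W (q + p) w
  | 0, _, h => hW _ h
  | _ + 1, _, ⟨hw, v, hv, hs, hne⟩ => ⟨(hW _ hw).mem, v, Deep.trans hW hv, hs, hne⟩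

theorem Deep.le_coheight {W : Set X} : ∀ {p : ℕ} {w : X}, Deep W p w → (p : ℕ∞) ≤ coheight w
  | 0, _, _ => by simp
  | p + 1, w, ⟨_, v, hv, hs, hne⟩ => by
    have hlt : w < v := lt_iff_le_not_ge.2 ⟨hs, fun h => hne (Specializes.antisymm hs h).eq⟩
    calc ((p + 1 : ℕ) : ℕ∞) = (p : ℕ∞) + 1 := by push_cast; rfl
      _ ≤ coheight v + 1 := by gcongr; exact hv.le_coheight
      _ ≤ coheight w := coheight_add_one_le hlt

theorem Deep.le_dim {W : Set X} {p : ℕ} {w : X} (h : Deep W p w) :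
    (p : WithBot ℕ∞) ≤ ringKrullDim (X.presheaf.stalk w) := by
  rw [ringKrullDim_stalk_eq_coheight]
  exact WithBot.coe_le_coe.2 h.le_coheight

theorem deep_univ_of_le : ∀ {p : ℕ} {w : X}, (p : ℕ∞) ≤ coheight w → Deep (Set.univ : Set X) p w
  | 0, _, _ => trivial
  | p + 1, w, h => by
    obtain ⟨l, hl, hlen⟩ := exists_series_of_le_coheight w h
    have hlt : l.head < l ⟨1, by omega⟩ := l.strictMono (Fin.mk_lt_mk.2 one_pos)
    have hp : (p : ℕ∞) ≤ coheight (l ⟨1, by omega⟩) := by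
      let l' : LTSeries X := l.drop ⟨1, by omega⟩
      have hl' : l'.head = l ⟨1, by omega⟩ := RelSeries.head_drop _ _
      refine (le_of_eq ?_).trans (length_le_coheight (le_of_eq hl'.symm))
      simp [l', hlen]
    rw [hl] at hlt
    exact ⟨trivial, l ⟨1, by omega⟩, deep_univ_of_le hp, show w ≤ _ from hlt.le, hlt.ne'⟩

theorem deep_univ_iff {p : ℕ} {w : X} :
    Deep (Set.univ : Set X) p w ↔ (p : WithBot ℕ∞) ≤ ringKrullDim (X.presheaf.stalk w) := by
  refine ⟨Deep.le_dim, fun h => deep_univ_of_le ?_⟩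
  rw [ringKrullDim_stalk_eq_coheight] at h
  exact WithBot.coe_le_coe.1 h

theorem Deep.map (i : Z ⟶ X) (hi : Function.Injective i) :
    ∀ {p : ℕ} {z : Z}, Deep (Set.univ : Set Z) p z → Deep (Set.range i) p (i z)
  | 0, z, _ => ⟨z, rfl⟩
  | _ + 1, z, ⟨_, v, hv, hs, hne⟩ => ⟨⟨z, rfl⟩, i v, hv.map i hi, hs.map i.continuous, fun h => hne (hi h)⟩

theorem Deep.exists_map (i : Z ⟶ X) (hi : Topology.IsInducing i) :
    ∀ {p : ℕ} {w : X}, Deep (Set.range i) p w → ∃ z : Z, i z = w ∧ Deep (Set.univ : Set Z) p z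
  | 0, _, ⟨z, hz⟩ => ⟨z, hz, trivial⟩
  | _ + 1, w, ⟨⟨z, hz⟩, v, hv, hs, hne⟩ => by
    obtain ⟨a, ha, hda⟩ := hv.exists_map i hi
    subst hz; subst ha
    exact ⟨z, rfl, trivial, a, hda, hi.specializes_iff.1 hs, fun h => hne (congrArg i h)⟩

/-- The dimension formula for chains. -/
theorem Deep.bound [IsLocallyNoetherian Y] [IsLocallyNoetherian X] (f : X ⟶ Y) {p : ℕ} {w : X}
    (h : Deep (Set.univ : Set X) p w) :
    (p : WithBot ℕ∞) ≤ ringKrullDim (Y.presheaf.stalk (f w)) + topologicalKrullDim ↥(f.fiber (f w)) :=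
  h.le_dim.trans ((FlatDvr.ringKrullDim_stalk_le f w).trans
    (add_le_add le_rfl (SchTop.ringKrullDim_stalk_le _)))

/-- Images along a morphism with small fibres lose at most the fibre dimension. -/
theorem Deep.push [IsLocallyNoetherian Y] [IsLocallyNoetherian X] (f : X ⟶ Y) {n : ℕ}
    (hn : ∀ y : Y, topologicalKrullDim ↥(f.fiber y) ≤ (n : WithBot ℕ∞)) {p : ℕ} {w : X}
    (h : Deep (Set.univ : Set X) (p + n) w) : Deep (Set.univ : Set Y) p (f w) := by
  refine deep_univ_iff.2 ?_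
  obtain ⟨m, hm⟩ := FlatDvr.exists_dim_eq (Y.presheaf.stalk (f w))
  have h1 := (h.bound f).trans (add_le_add le_rfl (hn _))
  rw [hm] at h1 ⊢
  have h2 : p + n ≤ m + n := by exact_mod_cast h1
  exact_mod_cast show p ≤ m by omega

end Groth.Agent.H23.GammaCap
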