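import Groth.Agent.H23.GammaCap.Main
import Groth.Agent.QCoh.RpushModel
import Groth.Agent.FComplLib.KrullSupp
import Groth.Agent.Lib.Euler

/-!
# Direct images of deep classes in the coniveau filtration
-/

set_option autoImplicit false
set_option linter.style.haveILetI false
set_option linter.unusedSectionVars false
set_option backward.isDefEq.respectTransparency false
set_option backward.isDefEq.respectTransparency.types false

universe v u

open CategoryTheory CategoryTheory.Limits AlgebraicGeometry TopologicalSpace LambdaRing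

noncomputable section

namespace Groth.Agent.H23.GammaCap

open Groth.Agent Groth.Agent.H28

variable {X Y : Scheme.{u}} [IsNoetherian X] [IsNoetherian Y] (π : X ⟶ Y) [IsProper π]
  [HasInjectiveResolutions X.Modules]

/-- The higher direct images live on the image of the support. -/
theorem support_rpush_subset {G : X.Modules} (hG : Coh.IsCoh G) (q : ℕ) :
    CohB1.support ((Coh.Rpush π q).obj G) ⊆ π '' CohB1.support G := by
  intro y hy
  by_contra hn
  have hcl : IsClosed (π '' CohB1.support G) := π.isClosedMap _ (QCoh.isClosed_support_of_isFT hG.1 hG.2)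
  refine hy (subsingleton_of_forall_eq 0 fun m => ?_)
  let R := (Coh.Rpush π q).obj G
  obtain ⟨V, hyV, v, rfl⟩ := TopCat.Presheaf.exists_germ_eq (C := AddCommGrpCat.{u}) R.presheaf (x := y) m
  obtain ⟨D, hD, hyD, hDle⟩ := exists_isAffineOpen_mem_and_subset (x := y)
    (U := V ⊓ ⟨_, hcl.isOpen_compl⟩) ⟨hyV, hn⟩
  have hle : D ≤ V := fun z hz => (hDle hz).1
  have hz : IsZero (G.restrict (π ⁻¹ᵁ D).ι) :=
    FComplLib.isZero_restrict_of_subsingleton_stalk G (π ⁻¹ᵁ D) fun x hx => by
      by_contra hns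
      exact (hDle hx).2 ⟨x, hns, rfl⟩
  obtain ⟨e⟩ := QCoh.nonempty_sections_HH (f := π) hG.1 hD q
  rw [← R.presheaf.germ_res_apply (homOfLE hle) y hyD v]
  haveI := Euler.subsingleton_HH_of_isZero hz q
  haveI : Subsingleton Γ(R, D) := e.toEquiv.subsingleton
  rw [Subsingleton.elim (α := Γ(R, D)) (R.presheaf.map (homOfLE hle).op v) 0]
  exact map_zero _

variable [ConnectedSpace X] {K : Type v} [CommRing K] [LambdaOps K] {P : PosStructure K}
  {φ : SGA6.Kvb X →+ K} {μ : K →+ SGA6.Kcoh X →+ SGA6.Kcoh X} {N : ℕ} {gc : SGA6.Kcoh X →+ SGA6.Kcoh Y}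

/-- Direct images of deep classes. -/
theorem push_cap_mem (hK : KRR.IsModel X K P φ) (hμ : KDet.IsCap φ μ) (hgc : KRR.IsPushCoh π N gc)
    {T : X.Modules} (hT : Coh.IsCoh T) {p q : ℕ} {x : K} (hx : x ∈ gammaFiltration P p)
    (hq : ∀ {Z : Scheme.{u}} (i : Z ⟶ X) [IsClosedImmersion i] [IsIntegral Z], Set.range i ⊆ CohB1.support T →
      ∀ z : Z, Deep (Set.univ : Set Z) p z → (q : WithBot ℕ∞) ≤ ringKrullDim (Y.presheaf.stalk ((i ≫ π) z))) :
    gc (μ x (KDet.clc X T)) ∈ KDet.coniv Y q := by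
  refine KFilt.mem_of_support ((KDet.coniv Y q).comap (gc.comp (μ x))) ⟨_, QCoh.isClosed_support_of_isFT hT.1 hT.2⟩
    (fun {Z} i hi hZ hr => ?_) T hT subset_rfl
  haveI := hi; haveI := hZ
  have hmem := gammaFiltration_le_op μ hK hμ p hx Z i hi hZ
  show gc (μ x (KDet.clc X ((Coh.push i).obj (Coh.structureModule Z)))) ∈ KDet.coniv Y q
  refine fil_le_comap gc (KDet.coniv Y q) (fun G hG hw => ?_) hmem
  rw [show gc (KDet.clc X G) = _ from hgc.2 G hG]
  refine sum_mem fun j _ => ?_
  have hc : Coh.IsCoh ((Coh.Rpush π j).obj G) :=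
    QCoh.isCoh_Rpush_of_finiteness π hG j (fun A _ _ Z _ _ N hN k => Groth.Agent.S0002.result A Z N hN k)
  refine AddSubgroup.zsmul_mem (KDet.coniv Y q) ?_ _
  refine AddSubgroup.subset_closure ⟨(Coh.Rpush π j).obj G, hc, ?_, rfl⟩
  intro y hy
  obtain ⟨w, hw', rfl⟩ := support_rpush_subset π hG j hy
  obtain ⟨z, rfl, hz⟩ := (hw w hw').exists_map i i.isClosedEmbedding.isInducing
  exact hq i hr z hz

theorem dim_fibre_le {T : X.Modules} {Z : Scheme.{u}} (i : Z ⟶ X) [IsClosedImmersion i]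
    (hr : Set.range i ⊆ CohB1.support T) (y : Y) :
    topologicalKrullDim ↥((i ≫ π).fiber y) ≤ topologicalKrullDim ↥(CohB1.support T ∩ π.base ⁻¹' {y}) := by
  let r : ↥((i ≫ π) ⁻¹' {y}) → ↥(CohB1.support T ∩ π.base ⁻¹' {y}) :=
    fun z => ⟨i z.1, hr ⟨z.1, rfl⟩, z.2⟩
  have hr' : Topology.IsEmbedding r :=
    (i.isClosedEmbedding.isEmbedding.comp Topology.IsEmbedding.subtypeVal).codRestrict _ fun z => (r z).2
  exact (hr'.comp ((i ≫ π).fiberHomeo y).isEmbedding).isInducing.topologicalKrullDim_le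

/-- Over a point of height at most one the depth is bounded by the fibre dimension plus the height. -/
theorem deep_le {T : X.Modules} {d : ℕ} (hT : KDet.CohPi π d T) {Z : Scheme.{u}} (i : Z ⟶ X)
    [IsClosedImmersion i] (hr : Set.range i ⊆ CohB1.support T) {p : ℕ} {z : Z} (hz : Deep (Set.univ : Set Z) p z)
    {n : ℕ} (hn : ringKrullDim (Y.presheaf.stalk ((i ≫ π) z)) = n) (hn1 : n ≤ 1) : p ≤ n + d := by
  haveI : IsNoetherian Z := PushComp.isNoetherian_of_closed i
  have hn' : ringKrullDim (Y.presheaf.stalk ((i ≫ π) z)) ≤ 1 := by rw [hn]; exact_mod_cast hn1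
  have h := (hz.bound (i ≫ π)).trans
    (add_le_add hn.le ((dim_fibre_le π i hr _).trans (hT.2 _ hn')))
  exact_mod_cast h

/-- Chains over a point to which the whole of `Z` maps stay in the fibre. -/
theorem deep_fibre {Z : Scheme.{u}} [IsIntegral Z] (g : Z ⟶ Y) {y : Y} (hgen : g (genericPoint Z) = y) :
    ∀ {p : ℕ} {z : Z}, g z = y → Deep (Set.univ : Set Z) p z → Deep (Set.range (g.fiberι y)) p z
  | 0, z, hz, _ => by rw [Scheme.Hom.range_fiberι]; exact hz
  | _ + 1, z, hz, ⟨_, v, hv, hs, hne⟩ => by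
    have h1 : y ⤳ g v := hgen ▸ (genericPoint_specializes v).map g.continuous
    have h2 : g v ⤳ y := hz ▸ hs.map g.continuous
    refine ⟨?_, v, deep_fibre g hgen ((h2.antisymm h1).eq) hv, hs, hne⟩
    rw [Scheme.Hom.range_fiberι]; exact hz

end Groth.Agent.H23.GammaCap
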